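import Mathlib.RingTheory.Smooth.NoetherianDescent
import Mathlib.RingTheory.Smooth.Flat
import Mathlib.RingTheory.Spectrum.Prime.Chevalley
import Mathlib.RingTheory.Flat.FaithfullyFlat.Algebra
import Mathlib.RingTheory.TensorProduct.Nontrivial
import Mathlib.RingTheory.LocalRing.ResidueField.Ideal
import Mathlib.RingTheory.FinitePresentation
import Mathlib.RingTheory.RingHom.FaithfullyFlat

/-!
# Finiteness descends along faithfully flat maps on the source

`R → A → B` with `A → B` faithfully flat and coming from a flat finitely presented algebra over a finitely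
generated subalgebra of `A`: if `R → B` is of finite type (presentation), so is `R → A`.
-/

set_option synthInstance.maxHeartbeats 100000

universe u

open TensorProduct

namespace Groth.Agent.SrcDescent

variable {R A B : Type u} [CommRing R] [CommRing A] [CommRing B]

theorem exists_prime_over {A₀ A₁ B₀ Ω : Type u} [CommRing A₀] [CommRing A₁] [CommRing B₀]
    [CommRing Ω] [IsDomain Ω] [Algebra A₀ A₁] [Algebra A₀ B₀] (f₁ : A₁ →+* Ω) (f₂ : B₀ →+* Ω)
    (h : f₁.comp (algebraMap A₀ A₁) = f₂.comp (algebraMap A₀ B₀)) :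
    ∃ q : PrimeSpectrum (A₁ ⊗[A₀] B₀),
      (PrimeSpectrum.comap (algebraMap A₁ (A₁ ⊗[A₀] B₀)) q).asIdeal = RingHom.ker f₁ := by
  let _ := (f₁.comp (algebraMap A₀ A₁)).toAlgebra
  let F₁ : A₁ →ₐ[A₀] Ω := ⟨f₁, fun _ => rfl⟩
  let F₂ : B₀ →ₐ[A₀] Ω := ⟨f₂, fun a => congr($(h.symm) a)⟩
  let F := Algebra.TensorProduct.lift F₁ F₂ fun _ _ => Commute.all _ _
  refine ⟨⟨RingHom.ker F.toRingHom, RingHom.ker_isPrime _⟩, ?_⟩
  change (RingHom.ker F.toRingHom).comap _ = _
  rw [RingHom.comap_ker]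
  congr 1
  ext a
  simp [F, Algebra.TensorProduct.algebraMap_apply, F₁, F₂]

theorem comap_surjective_includeLeft {A₀ A₁ B₀ : Type u} [CommRing A₀] [CommRing A₁] [CommRing B₀]
    [Algebra A₀ A₁] [Algebra A₀ B₀]
    (h : ∀ p : PrimeSpectrum A₁, PrimeSpectrum.comap (algebraMap A₀ A₁) p ∈
      Set.range (PrimeSpectrum.comap (algebraMap A₀ B₀))) :
    Function.Surjective (PrimeSpectrum.comap (algebraMap A₁ (A₁ ⊗[A₀] B₀))) := by
  intro p
  obtain ⟨q, hq⟩ := h p
  let p₀ := PrimeSpectrum.comap (algebraMap A₀ A₁) p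
  have hp₀ : p₀.asIdeal = p.asIdeal.comap (algebraMap A₀ A₁) := rfl
  have hq₀ : p₀.asIdeal = q.asIdeal.comap (algebraMap A₀ B₀) :=
    (congrArg PrimeSpectrum.asIdeal hq).symm
  let i₁ := Ideal.ResidueField.map p₀.asIdeal p.asIdeal (algebraMap A₀ A₁) hp₀
  let i₂ := Ideal.ResidueField.map p₀.asIdeal q.asIdeal (algebraMap A₀ B₀) hq₀
  let _ := i₁.toAlgebra
  let _ := i₂.toAlgebra
  let K₁ := p.asIdeal.ResidueField
  let K₂ := q.asIdeal.ResidueField
  let T := K₁ ⊗[p₀.asIdeal.ResidueField] K₂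
  have : Nontrivial T := Algebra.TensorProduct.nontrivial_of_algebraMap_injective_of_isDomain _ K₁ K₂
    (algebraMap p₀.asIdeal.ResidueField K₁).injective (algebraMap p₀.asIdeal.ResidueField K₂).injective
  obtain ⟨m, hm⟩ := Ideal.exists_maximal T
  have hdom : ((Ideal.Quotient.mk m).comp (Algebra.TensorProduct.includeLeftRingHom)).comp i₁ =
      ((Ideal.Quotient.mk m).comp (Algebra.TensorProduct.includeRight :
        K₂ →ₐ[p₀.asIdeal.ResidueField] T).toRingHom).comp i₂ := by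
    refine RingHom.ext fun x => ?_
    change Ideal.Quotient.mk m (algebraMap p₀.asIdeal.ResidueField K₁ x ⊗ₜ 1) =
      Ideal.Quotient.mk m (1 ⊗ₜ algebraMap p₀.asIdeal.ResidueField K₂ x)
    rw [Algebra.TensorProduct.tmul_one_eq_one_tmul]
  let f₁ : A₁ →+* T ⧸ m := ((Ideal.Quotient.mk m).comp Algebra.TensorProduct.includeLeftRingHom).comp
    (algebraMap A₁ K₁)
  let f₂ : B₀ →+* T ⧸ m := ((Ideal.Quotient.mk m).comp (Algebra.TensorProduct.includeRight :
    K₂ →ₐ[p₀.asIdeal.ResidueField] T).toRingHom).comp (algebraMap B₀ K₂)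
  have := hm.isPrime
  obtain ⟨q', hq'⟩ := exists_prime_over (A₀ := A₀) f₁ f₂ <| RingHom.ext fun a => by
    have := congr($hdom (algebraMap A₀ _ a))
    simp only [RingHom.comp_apply, i₁, i₂] at this
    erw [Ideal.ResidueField.map_algebraMap, Ideal.ResidueField.map_algebraMap] at this
    exact this
  refine ⟨q', PrimeSpectrum.ext (hq'.trans ?_)⟩
  let := Ideal.Quotient.field m
  rw [show RingHom.ker f₁ = RingHom.ker (algebraMap A₁ K₁) from
    RingHom.ker_comp_of_injective _ (RingHom.injective _)]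
  exact Ideal.ker_algebraMap_residueField _

/-- The complement of the image of a flat finitely presented map is cut out by an ideal. -/
theorem exists_ideal_compl_range (A₀ B₀ : Type u) [CommRing A₀] [CommRing B₀] [Algebra A₀ B₀]
    [Module.Flat A₀ B₀] [Algebra.FinitePresentation A₀ B₀] :
    ∃ J : Ideal A₀, ∀ p, p ∈ Set.range (PrimeSpectrum.comap (algebraMap A₀ B₀)) ↔ ¬ J ≤ p.asIdeal := by
  obtain ⟨J, hJ⟩ := (PrimeSpectrum.isClosed_iff_zeroLocus_ideal _).1
    (PrimeSpectrum.isOpenMap_comap_of_hasGoingDown_of_finitePresentation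
      (R := A₀) (S := B₀)).isOpen_range.isClosed_compl
  refine ⟨J, fun p => ?_⟩
  rw [← not_iff_not, not_not, ← Set.mem_compl_iff, hJ, PrimeSpectrum.mem_zeroLocus,
    SetLike.coe_subset_coe]

section Model

variable [Algebra A B] [Module.FaithfullyFlat A B]
  {A₀ B₀ : Type u} [CommRing A₀] [CommRing B₀] [Algebra A₀ A] [Algebra A₀ B₀]

theorem map_eq_top_of_model (e : B ≃ₐ[A] A ⊗[A₀] B₀) {J : Ideal A₀}
    (hJ : ∀ p, p ∈ Set.range (PrimeSpectrum.comap (algebraMap A₀ B₀)) ↔ ¬ J ≤ p.asIdeal) :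
    J.map (algebraMap A₀ A) = ⊤ := by
  by_contra h
  obtain ⟨m, hm, hle⟩ := Ideal.exists_le_maximal _ h
  obtain ⟨q, hq⟩ := PrimeSpectrum.comap_surjective_of_faithfullyFlat (A := A) (B := B) ⟨m, hm.isPrime⟩
  apply (hJ (PrimeSpectrum.comap (algebraMap A₀ A) ⟨m, hm.isPrime⟩)).1
  · refine ⟨PrimeSpectrum.comap ((e.symm.toAlgHom.toRingHom).comp
      (Algebra.TensorProduct.includeRight : B₀ →ₐ[A₀] A ⊗[A₀] B₀).toRingHom) q, ?_⟩
    rw [← hq, ← PrimeSpectrum.comap_comp_apply, ← PrimeSpectrum.comap_comp_apply]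
    congr 1
    ext a
    simp only [RingHom.comp_apply]
    change e.symm ((Algebra.TensorProduct.includeRight : B₀ →ₐ[A₀] A ⊗[A₀] B₀) (algebraMap A₀ B₀ a)) = _
    rw [AlgHom.commutes, IsScalarTower.algebraMap_apply A₀ A (A ⊗[A₀] B₀), AlgEquiv.commutes]
  · exact Ideal.map_le_iff_le_comap.1 hle

variable {A₁ : Type u} [CommRing A₁] [Algebra A₀ A₁]

theorem faithfullyFlat_stage [Module.Flat A₀ B₀] {J : Ideal A₀}
    (hJ : ∀ p, p ∈ Set.range (PrimeSpectrum.comap (algebraMap A₀ B₀)) ↔ ¬ J ≤ p.asIdeal)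
    (h : J.map (algebraMap A₀ A₁) = ⊤) : Module.FaithfullyFlat A₁ (A₁ ⊗[A₀] B₀) :=
  .of_comap_surjective <| comap_surjective_includeLeft fun p => (hJ _).2 fun hle =>
    p.2.ne_top (top_le_iff.1 (h ▸ Ideal.map_le_iff_le_comap.2 hle))

end Model

theorem exists_finite_coeffs {A₀ : Type u} [CommRing A₀] [Algebra A₀ A] {J : Ideal A₀}
    (h : J.map (algebraMap A₀ A) = ⊤) :
    ∃ (n : ℕ) (g : Fin n → A₀) (c : Fin n → A), (∀ i, g i ∈ J) ∧ ∑ i, c i * algebraMap A₀ A (g i) = 1 := by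
  have h1 : (1 : A) ∈ Submodule.span A (algebraMap A₀ A '' (J : Set A₀)) := by
    rw [← Ideal.span, ← Ideal.map, h]; trivial
  obtain ⟨n, c, g, hg⟩ := Submodule.mem_span_set'.1 h1
  choose g' hg' hgg using fun i => (g i).2
  refine ⟨n, g', c, hg', ?_⟩
  simpa only [smul_eq_mul, ← hgg] using hg

theorem ideal_eq_of_map_eq {C D : Type u} [CommRing C] [CommRing D] (ι : C →+* D)
    (hι : ι.FaithfullyFlat) {I J : Ideal C} (h : I.map ι = J.map ι) : I = J := by
  algebraize [ι]
  rw [← Ideal.comap_map_eq_self_of_faithfullyFlat (B := D) I,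
    ← Ideal.comap_map_eq_self_of_faithfullyFlat (B := D) J]
  exact congrArg (Ideal.comap ι) h

/-- Finite type descends along a faithfully flat smooth map at the source. -/
theorem finiteType_of_model [Algebra R A] [Algebra A B] [Algebra R B] [IsScalarTower R A B]
    [Module.FaithfullyFlat A B] [Algebra.FiniteType R B] (A₀ : Subalgebra R A) (hA₀ : A₀.FG)
    (B₀ : Type u) [CommRing B₀] [Algebra A₀ B₀] [Module.Flat A₀ B₀]
    [Algebra.FinitePresentation A₀ B₀] (e : B ≃ₐ[A] A ⊗[A₀] B₀) : Algebra.FiniteType R A := by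
  obtain ⟨J, hJ⟩ := exists_ideal_compl_range A₀ B₀
  obtain ⟨n, g, c, hg, hgc⟩ := exists_finite_coeffs (map_eq_top_of_model e hJ)
  obtain ⟨s, hs⟩ := (‹Algebra.FiniteType R B›).out
  classical
  choose S hS using fun x : B => TensorProduct.exists_finset (e x)
  let C : Finset A := Finset.univ.image c ∪ s.biUnion fun x => (S x).image Prod.fst
  obtain ⟨t, ht⟩ := hA₀
  let A₁ : Subalgebra R A := Algebra.adjoin R ((t ∪ C : Finset A) : Set A)
  have hle : A₀ ≤ A₁ := ht ▸ Algebra.adjoin_mono (Finset.coe_subset.2 Finset.subset_union_left)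
  have hC : ∀ x ∈ C, x ∈ A₁ := fun x hx => Algebra.subset_adjoin (Finset.mem_union_right _ hx)
  let _ : Algebra A₀ A₁ := (Subalgebra.inclusion hle).toRingHom.toAlgebra
  have : IsScalarTower A₀ A₁ A := .of_algebraMap_eq' rfl
  let B₁ := A₁ ⊗[A₀] B₀
  have hff : Module.FaithfullyFlat A₁ B₁ := by
    refine faithfullyFlat_stage hJ ((Ideal.eq_top_iff_one _).2 ?_)
    have h1 : (1 : A₁) = ∑ i, (⟨c i, hC _ (Finset.mem_union_left _
        (Finset.mem_image_of_mem c (Finset.mem_univ i)))⟩ : A₁) * algebraMap A₀ A₁ (g i) := by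
      apply Subtype.ext
      push_cast
      exact hgc.symm
    rw [h1]
    exact Ideal.sum_mem _ fun i _ => Ideal.mul_mem_left _ _ (Ideal.mem_map_of_mem _ (hg i))
  let m : B₁ →ₐ[A₀] A ⊗[A₀] B₀ :=
    Algebra.TensorProduct.map (IsScalarTower.toAlgHom A₀ A₁ A) (AlgHom.id A₀ B₀)
  let m' : B₁ →ₐ[A₁] A ⊗[A₀] B₀ :=
    Algebra.TensorProduct.map (Algebra.ofId A₁ A) (AlgHom.id A₀ B₀)
  have hm : Function.Surjective m' := by
    let R' : Subalgebra R B :=
      (((e.symm.toAlgHom.restrictScalars A₁).comp m').restrictScalars R).range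
    have : R' = ⊤ := by
      rw [eq_top_iff, ← hs, Algebra.adjoin_le_iff]
      intro x hx
      refine ⟨∑ i ∈ (S x).attach, (⟨i.1.1, hC _ (Finset.mem_union_right _
        (Finset.mem_biUnion.2 ⟨x, hx, Finset.mem_image_of_mem _ i.2⟩))⟩ : A₁) ⊗ₜ i.1.2, ?_⟩
      apply e.injective
      simp only [m', map_sum, AlgHom.comp_apply, AlgHom.restrictScalars_apply,
        Algebra.TensorProduct.map_tmul, AlgHom.toRingHom_eq_coe, RingHom.coe_coe]
      rw [hS x, ← Finset.sum_attach (S x) (fun i => i.1 ⊗ₜ[A₀] i.2)]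
      refine Finset.sum_congr rfl fun i _ => ?_
      change e (e.symm _) = _
      rw [e.apply_symm_apply]
      rfl
    intro y
    obtain ⟨x, hx⟩ := this.ge (Algebra.mem_top (x := e.symm y))
    exact ⟨x, e.symm.injective hx⟩
  have hsurj : Function.Surjective (Algebra.linearMap A₁ A) := by
    rw [← Module.FaithfullyFlat.lTensor_surjective_iff_surjective A₁ B₁]
    intro y
    let Φ := Algebra.TensorProduct.cancelBaseChange A₀ A₁ A A B₀
    let c := TensorProduct.comm A₁ B₁ A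
    obtain ⟨x, hx⟩ := hm (Φ (c y))
    refine ⟨x ⊗ₜ 1, c.injective (Φ.injective ?_)⟩
    rw [← hx]
    clear hx
    induction x using TensorProduct.induction_on with
    | zero => simp only [zero_tmul, map_zero]
    | add a b ha hb => simp only [add_tmul, map_add, ha, hb]
    | tmul a b =>
      have h1 : c ((Algebra.linearMap A₁ A).lTensor B₁ ((a ⊗ₜ[A₀] b) ⊗ₜ[A₁] (1 : A₁))) =
          (1 : A) ⊗ₜ[A₁] (a ⊗ₜ[A₀] b) := by simp [c, B₁]
      refine (congrArg Φ h1).trans ?_
      simp only [Φ, m']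
      erw [Algebra.TensorProduct.cancelBaseChange_tmul]
      rw [Algebra.smul_def, mul_one]
      rfl
  have : Algebra.FiniteType R A₁ := ⟨A₁.fg_top.mpr ⟨t ∪ C, rfl⟩⟩
  exact Algebra.FiniteType.of_surjective (IsScalarTower.toAlgHom R A₁ A) hsurj

theorem finitePresentation_of_stage {A₁ A₀ B₀ : Type u} [CommRing A₁] [CommRing A₀] [CommRing B₀]
    [Algebra R A] [Algebra A B] [Algebra R B] [IsScalarTower R A B] [Algebra R A₁] [Algebra A₀ A]
    [Algebra A₀ A₁] [Algebra A₀ B₀] [Algebra.FinitePresentation A₀ B₀]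
    [Algebra.FinitePresentation R B] (e : B ≃ₐ[A] A ⊗[A₀] B₀) (π₁ : A₁ →ₐ[R] A)
    (hπ₁ : Function.Surjective π₁) (π₁' : A₁ →ₐ[A₀] A) (h' : ∀ x, π₁' x = π₁ x)
    (hff : Module.FaithfullyFlat A₁ (A₁ ⊗[A₀] B₀)) (hfp₁ : Algebra.FinitePresentation R A₁) :
    Algebra.FinitePresentation R A := by
  classical
  let B₁ := A₁ ⊗[A₀] B₀
  have : Algebra.FinitePresentation R B₁ := Algebra.FinitePresentation.trans R A₁ B₁
  let M : B₁ →ₐ[A₀] A ⊗[A₀] B₀ := Algebra.TensorProduct.map π₁' (AlgHom.id A₀ B₀)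
  have hs' : Function.Surjective π₁' := fun y => (hπ₁ y).imp fun x hx => (h' x).trans hx
  have hM : Function.Surjective M :=
    Algebra.TensorProduct.map_surjective _ _ hs' Function.surjective_id
  let N : B₁ →ₐ[R] B :=
    { toRingHom := e.symm.toAlgHom.toRingHom.comp M.toRingHom
      commutes' := fun x => by
        change e.symm (M (algebraMap R A₁ x ⊗ₜ (1 : B₀))) = _
        have : M (algebraMap R A₁ x ⊗ₜ (1 : B₀)) = algebraMap A (A ⊗[A₀] B₀) (π₁ (algebraMap R A₁ x)) := by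
          rw [← h']; rfl
        rw [this, π₁.commutes, AlgEquiv.commutes, ← IsScalarTower.algebraMap_apply] }
  have hN : Function.Surjective N := e.symm.surjective.comp hM
  have hker : (RingHom.ker N.toRingHom).FG :=
    @Algebra.FinitePresentation.ker_fG_of_surjective R B₁ B _ _ _ _ _ N hN _ _
  let κ : Ideal A₁ := RingHom.ker π₁'
  let ι : A₁ →+* A₁ ⊗[A₀] B₀ := Algebra.TensorProduct.includeLeftRingHom
  have hkerN : RingHom.ker N.toRingHom = Ideal.map ι κ := by
    have h2 : RingHom.ker N.toRingHom = RingHom.ker M :=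
      RingHom.ker_comp_of_injective M.toRingHom e.symm.injective
    rw [h2]
    exact Algebra.TensorProduct.rTensor_ker π₁' hs'
  rw [hkerN] at hker
  obtain ⟨K', hK', hK'eq⟩ : ∃ K' : Finset A₁, (K' : Set A₁) ⊆ RingHom.ker π₁' ∧
      Ideal.map ι κ = Ideal.map ι (Ideal.span (K' : Set A₁)) := by
    obtain ⟨t, ht⟩ := hker
    have hmem : ∀ x ∈ t, x ∈ Submodule.span B₁ (ι '' (κ : Set A₁)) :=
      fun x hx => (ht ▸ Ideal.subset_span hx :)
    choose T hT1 hT2 using fun x : t => Submodule.mem_span_finite_of_mem_span (hmem x x.2)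
    choose U hU1 hU2 using fun x : t => Finset.subset_set_image_iff.1 (hT1 x)
    refine ⟨Finset.univ.biUnion U, by simpa using fun x hx => hU1 ⟨x, hx⟩, le_antisymm ?_ ?_⟩
    · rw [← ht, Submodule.span_le]
      intro x hx
      rw [Ideal.map_span]
      refine Submodule.span_mono ?_ (hT2 ⟨x, hx⟩)
      rw [← hU2, Finset.coe_image]
      exact Set.image_mono (Finset.coe_subset.2 (Finset.subset_biUnion_of_mem U (Finset.mem_univ _)))
    · refine Ideal.map_mono (Ideal.span_le.2 ?_)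
      simpa using fun x hx => hU1 ⟨x, hx⟩
  have hι : ι.FaithfullyFlat := RingHom.faithfullyFlat_algebraMap_iff.2 hff
  have hfg : κ = Ideal.span (K' : Set A₁) := ideal_eq_of_map_eq ι hι hK'eq
  refine Algebra.FinitePresentation.of_surjective hπ₁ ⟨K', hfg.symm.trans ?_⟩
  ext x
  simp [κ, h']

/-- Finite presentation descends along a faithfully flat smooth map at the source. -/
theorem finitePresentation_of_model [Algebra R A] [Algebra A B] [Algebra R B] [IsScalarTower R A B]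
    [Module.FaithfullyFlat A B] [Algebra.FinitePresentation R B] [Algebra.FiniteType R A]
    (A₀ : Subalgebra ℤ A) (hA₀ : A₀.FG) (B₀ : Type u) [CommRing B₀] [Algebra A₀ B₀]
    [Module.Flat A₀ B₀] [Algebra.FinitePresentation A₀ B₀] (e : B ≃ₐ[A] A ⊗[A₀] B₀) :
    Algebra.FinitePresentation R A := by
  classical
  obtain ⟨n, π, hπ⟩ := Algebra.FiniteType.iff_quotient_mvPolynomial''.1 ‹Algebra.FiniteType R A›
  obtain ⟨J, hJ⟩ := exists_ideal_compl_range A₀ B₀
  obtain ⟨k, g, c, hg, hgc⟩ := exists_finite_coeffs (map_eq_top_of_model e hJ)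
  have : Algebra.FiniteType ℤ A₀ := ⟨A₀.fg_top.mpr hA₀⟩
  obtain ⟨r, φ, hφ⟩ := Algebra.FiniteType.iff_quotient_mvPolynomial''.1 ‹Algebra.FiniteType ℤ A₀›
  obtain ⟨G, hG⟩ := (inferInstance : IsNoetherianRing (MvPolynomial (Fin r) ℤ)).noetherian (RingHom.ker φ)
  choose σ hσ using fun i => hπ (φ (MvPolynomial.X i) : A)
  let ψ : MvPolynomial (Fin r) ℤ →ₐ[ℤ] MvPolynomial (Fin n) R := MvPolynomial.aeval σ
  have hψ : ∀ z, π (ψ z) = φ z := fun z => by
    have : ((π.restrictScalars ℤ).comp ψ) = A₀.val.comp φ :=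
      MvPolynomial.algHom_ext fun i => by simp [ψ, hσ]
    exact congr($this z)
  choose g' hg' using fun i => hφ (g i)
  choose c' hc' using fun i => hπ (c i)
  let rel : MvPolynomial (Fin n) R := ∑ i, c' i * ψ (g' i) - 1
  let I₁ : Ideal (MvPolynomial (Fin n) R) := Ideal.span (↑(G.image ψ ∪ {rel}))
  have hI₁ : I₁ ≤ RingHom.ker π := by
    rw [Ideal.span_le]
    intro x hx
    simp only [Finset.mem_coe, Finset.mem_union, Finset.mem_image, Finset.mem_singleton] at hx
    obtain ⟨z, hz, rfl⟩ | rfl := hx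
    · have : φ z = 0 := RingHom.mem_ker.1 (hG ▸ Ideal.subset_span hz)
      simp [hψ, this]
    · simp only [SetLike.mem_coe, RingHom.mem_ker, rel, map_sub, map_one, map_sum, map_mul, hψ, hg', hc']
      exact sub_eq_zero.2 hgc
  let A₁ := MvPolynomial (Fin n) R ⧸ I₁
  let π₁ : A₁ →ₐ[R] A := Ideal.Quotient.liftₐ I₁ π fun x hx => hI₁ hx
  have hπ₁ : Function.Surjective π₁ := Ideal.Quotient.lift_surjective_of_surjective _ _ hπ
  let θ : A₀ →+* A₁ := RingHom.liftOfRightInverse φ.toRingHom (Function.surjInv hφ)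
    (Function.rightInverse_surjInv hφ) ⟨(Ideal.Quotient.mk I₁).comp ψ.toRingHom, fun z hz => by
      rw [RingHom.mem_ker, RingHom.comp_apply, Ideal.Quotient.eq_zero_iff_mem]
      have hz' : z ∈ Submodule.span (MvPolynomial (Fin r) ℤ) (G : Set (MvPolynomial (Fin r) ℤ)) := hG ▸ hz
      have hmap : (Ideal.span (G : Set (MvPolynomial (Fin r) ℤ))).map ψ.toRingHom ≤ I₁ := by
        rw [Ideal.map_span]
        refine Ideal.span_mono ?_
        rintro _ ⟨w, hw, rfl⟩
        exact Finset.mem_union_left _ (Finset.mem_image_of_mem _ hw)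
      exact hmap (Ideal.mem_map_of_mem _ hz')⟩
  have hθ : ∀ z, θ (φ z) = Ideal.Quotient.mk I₁ (ψ z) := fun z =>
    RingHom.liftOfRightInverse_comp_apply _ _ _ _ z
  let _ : Algebra A₀ A₁ := θ.toAlgebra
  have hπθ : ∀ a, π₁ (θ a) = (a : A) := fun a => by
    obtain ⟨z, rfl⟩ := hφ a
    rw [hθ]
    exact hψ z
  let π₁' : A₁ →ₐ[A₀] A := ⟨π₁.toRingHom, hπθ⟩
  have hff : Module.FaithfullyFlat A₁ (A₁ ⊗[A₀] B₀) := by
    refine faithfullyFlat_stage hJ ((Ideal.eq_top_iff_one _).2 ?_)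
    have h1 : (1 : A₁) = ∑ i, Ideal.Quotient.mk I₁ (c' i) * algebraMap A₀ A₁ (g i) := by
      have : Ideal.Quotient.mk I₁ rel = 0 :=
        Ideal.Quotient.eq_zero_iff_mem.2 (Ideal.subset_span (Finset.mem_union_right _ (by simp)))
      simp only [rel, map_sub, map_sum, map_mul, map_one, sub_eq_zero] at this
      rw [← this]
      refine Finset.sum_congr rfl fun i _ => ?_
      rw [RingHom.algebraMap_toAlgebra, ← hg', hθ]
    rw [h1]
    exact Ideal.sum_mem _ fun i _ => Ideal.mul_mem_left _ _ (Ideal.mem_map_of_mem _ (hg i))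
  exact finitePresentation_of_stage e π₁ hπ₁ π₁' (fun _ => rfl) hff
    (Algebra.FinitePresentation.quotient ⟨_, rfl⟩)

/-- Smooth faithfully flat maps descend finite type on the source. -/
theorem finiteType_of_smooth_faithfullyFlat [Algebra R A] [Algebra A B] [Algebra R B]
    [IsScalarTower R A B] [Module.FaithfullyFlat A B] [Algebra.Smooth A B] [Algebra.FiniteType R B] :
    Algebra.FiniteType R A := by
  obtain ⟨A₀, B₀, _, _, h₀, _, ⟨e⟩⟩ := Algebra.Smooth.exists_subalgebra_fg R A B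
  exact finiteType_of_model A₀ h₀ B₀ e

/-- Smooth faithfully flat maps descend finite presentation on the source. -/
theorem finitePresentation_of_smooth_faithfullyFlat [Algebra R A] [Algebra A B] [Algebra R B]
    [IsScalarTower R A B] [Module.FaithfullyFlat A B] [Algebra.Smooth A B]
    [Algebra.FinitePresentation R B] : Algebra.FinitePresentation R A := by
  have := finiteType_of_smooth_faithfullyFlat (R := R) (A := A) (B := B)
  obtain ⟨A₀, B₀, _, _, h₀, _, ⟨e⟩⟩ := Algebra.Smooth.exists_subalgebra_fg ℤ A B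
  exact finitePresentation_of_model A₀ h₀ B₀ e

end Groth.Agent.SrcDescent
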