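import Mathlib.RingTheory.Etale.Kaehler
import Mathlib.RingTheory.Etale.StandardEtale
import Mathlib.RingTheory.Etale.Descent
import Mathlib.RingTheory.Unramified.LocalStructure
import Groth.Agent.SrcDescent.Algebra

/-!
# Smoothness descends along etale faithfully flat maps of the source
-/

set_option backward.isDefEq.respectTransparency false
set_option backward.isDefEq.respectTransparency.types false

universe u

open TensorProduct Polynomial

namespace Groth.Agent.SrcDescent

variable {A B : Type u} [CommRing A] [CommRing B] [Algebra A B]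

/-- For a standard etale `B`-algebra `T`, the first cotangent cohomology of `B` over `A` base changes to that
of `T`. -/
theorem nonempty_tensorH1Cotangent_equiv_of_isStandardEtale (T : Type u) [CommRing T] [Algebra A T]
    [Algebra B T] [IsScalarTower A B T] [Algebra.IsStandardEtale B T] :
    Nonempty (T ⊗[B] Algebra.H1Cotangent A B ≃ₗ[T] Algebra.H1Cotangent A T) := by
  obtain ⟨pres⟩ := (inferInstance : Nonempty (StandardEtalePresentation B T))
  let P : Algebra.Extension.{u} A B := (Algebra.Generators.self A B).toExtension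
  have : Algebra.FormallySmooth A P.Ring :=
    inferInstanceAs (Algebra.FormallySmooth A (MvPolynomial B A))
  have hsur : Function.Surjective (algebraMap P.Ring B) := P.algebraMap_surjective
  obtain ⟨f₀, hf₀, -, hf₀m⟩ := Polynomial.lifts_and_natDegree_eq_and_monic
    (f := algebraMap P.Ring B) (Polynomial.mem_lifts_of_surjective hsur pres.f)
    pres.monic_f
  obtain ⟨g₀, hg₀⟩ := Polynomial.map_surjective _ hsur pres.g
  let pair : StandardEtalePair P.Ring :=
    ⟨f₀, hf₀m, g₀ * derivative f₀, g₀, 0, 1, by ring⟩
  letI : Algebra P.Ring T := ((algebraMap B T).comp (algebraMap P.Ring B)).toAlgebra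
  have : IsScalarTower P.Ring B T := .of_algebraMap_eq' rfl
  have : IsScalarTower A P.Ring T := .of_algebraMap_eq fun r => by
    rw [RingHom.algebraMap_toAlgebra, RingHom.comp_apply, ← IsScalarTower.algebraMap_apply A P.Ring B,
      ← IsScalarTower.algebraMap_apply A B T]
  have key : ∀ (p : P.Ring[X]) {D : Type u} [CommRing D] [Algebra B D] [Algebra P.Ring D]
      [IsScalarTower P.Ring B D] (x : D), aeval x p = aeval x (p.map (algebraMap P.Ring B)) :=
    fun p D _ _ _ _ x => (Polynomial.aeval_map_algebraMap B x p).symm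
  have hx : pair.HasMap pres.x := by
    refine ⟨?_, ?_⟩
    · rw [key, hf₀]
      exact pres.hasMap.1
    · rw [key, Polynomial.map_mul, hg₀, ← Polynomial.derivative_map, hf₀, map_mul]
      exact pres.hasMap.2.mul pres.hasMap.isUnit_derivative_f
  letI : Algebra A pair.Ring := ((algebraMap P.Ring pair.Ring).comp (algebraMap A P.Ring)).toAlgebra
  have : IsScalarTower A P.Ring pair.Ring := .of_algebraMap_eq' rfl
  let φ : pair.Ring →ₐ[P.Ring] T := pair.lift pres.x hx
  have hφ : ∀ p : P.Ring[X], φ (aeval pair.X p) = aeval pres.x p := fun p => by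
    rw [← aeval_algHom_apply, StandardEtalePair.lift_X]
  have hgX : IsUnit (aeval pair.X g₀) := by
    have h := pair.hasMap_X.2
    rw [map_mul] at h
    exact isUnit_of_mul_isUnit_left h
  have hφsur : Function.Surjective φ := fun t => by
    obtain ⟨p, n, hp⟩ := pres.exists_mul_aeval_x_g_pow_eq_aeval_x t
    obtain ⟨p, rfl⟩ := Polynomial.map_surjective _ hsur p
    refine ⟨aeval pair.X p * ↑(hgX.unit⁻¹) ^ n, ?_⟩
    rw [← key, ← hg₀, ← key] at hp
    have h1 : φ ↑(hgX.unit⁻¹) * aeval pres.x g₀ = 1 := by
      rw [← hφ g₀, ← map_mul, IsUnit.val_inv_mul, map_one]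
    rw [map_mul, map_pow, hφ, ← hp, mul_assoc, ← mul_pow, mul_comm (aeval pres.x g₀), h1, one_pow,
      mul_one]
  let J : Ideal pair.Ring := Ideal.map (algebraMap P.Ring pair.Ring) P.ker
  have hker : RingHom.ker φ ≤ J := by
    letI : Algebra B (pair.Ring ⧸ J) :=
      ((algebraMap P.Ring B).liftOfSurjective hsur
        ⟨(Ideal.Quotient.mk J).comp (algebraMap P.Ring pair.Ring), fun r hr => by
          rw [RingHom.mem_ker, RingHom.comp_apply, Ideal.Quotient.eq_zero_iff_mem]
          exact Ideal.mem_map_of_mem _ hr⟩).toAlgebra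
    haveI : IsScalarTower P.Ring B (pair.Ring ⧸ J) := .of_algebraMap_eq fun r => by
      rw [RingHom.algebraMap_toAlgebra, RingHom.liftOfSurjective_comp_apply]
      rfl
    have hX : pres.HasMap (Ideal.Quotient.mkₐ P.Ring J pair.X) := by
      have h := StandardEtalePair.HasMap.map (StandardEtalePair.hasMap_X (P := pair))
        (Ideal.Quotient.mkₐ P.Ring J)
      refine ⟨?_, ?_⟩
      · rw [← hf₀, ← key]
        exact h.1
      · rw [← hg₀, ← key]
        have h2 := h.2
        rw [map_mul] at h2
        exact isUnit_of_mul_isUnit_left h2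
    let ψ : T →ₐ[B] pair.Ring ⧸ J :=
      (pres.P.lift _ hX).comp pres.equivRing.toAlgHom
    have hψ : (ψ.restrictScalars P.Ring).comp φ = Ideal.Quotient.mkₐ P.Ring J := by
      apply StandardEtalePair.hom_ext
      simp [φ, ψ]
    intro q hq
    rw [← Ideal.Quotient.eq_zero_iff_mem, ← Ideal.Quotient.mkₐ_eq_mk P.Ring, ← hψ,
      AlgHom.comp_apply, RingHom.mem_ker.1 hq, map_zero]
  let Q : Algebra.Extension.{u} A T := .ofSurjective (φ.restrictScalars A) hφsur
  let hom : P.Hom Q :=
    { toRingHom := algebraMap P.Ring pair.Ring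
      toRingHom_algebraMap := fun a => (IsScalarTower.algebraMap_apply A P.Ring pair.Ring a).symm
      algebraMap_toRingHom := fun r => φ.commutes r }
  letI : Algebra P.Ring Q.Ring := (inferInstance : Algebra P.Ring pair.Ring)
  have : Algebra.FormallySmooth A Q.Ring :=
    Algebra.FormallySmooth.comp A P.Ring pair.Ring
  refine ⟨(Algebra.Extension.tensorH1CotangentOfFormallyEtale hom rfl
    (RingHom.formallyEtale_algebraMap.mpr (inferInstanceAs (Algebra.FormallyEtale P.Ring pair.Ring)))
    ⟨?_, ?_⟩).trans (Algebra.Extension.equivH1CotangentOfFormallySmooth Q)⟩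
  · have hflat : Module.Flat P.Ring pair.Ring := inferInstance
    have h1 := Module.Flat.lTensor_preserves_injective_linearMap (M := pair.Ring)
      P.ker.subtype Subtype.val_injective
    intro a b hab
    apply h1
    apply (TensorProduct.rid P.Ring pair.Ring).injective
    have h2 : ∀ z : pair.Ring ⊗[P.Ring] P.ker,
        TensorProduct.rid P.Ring pair.Ring (LinearMap.lTensor pair.Ring P.ker.subtype z) =
          ((hom.mapKer rfl).liftBaseChange Q.Ring z).val := by
      intro z
      induction z with
      | zero => simp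
      | add x y hx hy => simp only [map_add, Submodule.coe_add, hx, hy]
      | tmul q i =>
        simp only [LinearMap.lTensor_tmul, TensorProduct.rid_tmul, LinearMap.liftBaseChange_tmul,
          Submodule.coe_subtype, SetLike.val_smul]
        rw [Algebra.smul_def, mul_comm]
        rfl
    rw [h2, h2, hab]
  · intro q
    have hq : (q.1 : pair.Ring) ∈ J := hker q.2
    let R' := LinearMap.range ((hom.mapKer rfl).liftBaseChange Q.Ring)
    have hle : J ≤ Submodule.map (Submodule.subtype _) R' := by
      refine Ideal.map_le_iff_le_comap.2 fun i hi => ?_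
      exact ⟨_, ⟨1 ⊗ₜ ⟨i, hi⟩, rfl⟩, by simp [LinearMap.liftBaseChange_tmul]; rfl⟩
    obtain ⟨q', ⟨z, hz⟩, hq'⟩ := hle hq
    exact ⟨z, hz.trans (Subtype.ext hq')⟩

theorem subsingleton_of_flat_family {M : Type u} [AddCommGroup M] [Module B M]
    (h : ∀ m : Ideal B, m.IsMaximal → ∃ (T : Type u) (_ : CommRing T) (_ : Algebra B T),
      Module.Flat B T ∧ Subsingleton (T ⊗[B] M) ∧ m.map (algebraMap B T) ≠ ⊤) : Subsingleton M := by
  refine subsingleton_iff_forall_eq 0 |>.2 fun x => ?_
  by_contra hx
  let J := LinearMap.ker (LinearMap.toSpanSingleton B M x)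
  have hJ : J ≠ ⊤ := fun h => hx (by
    have h1 : (1 : B) ∈ J := h ▸ Submodule.mem_top
    simpa [J] using h1)
  obtain ⟨m, hm, hle⟩ := Ideal.exists_le_maximal J hJ
  obtain ⟨T, _, _, hflat, hsub, hne⟩ := h m hm
  let e : (B ⧸ J) →ₗ[B] M := J.liftQ (LinearMap.toSpanSingleton B M x) le_rfl
  have he : Function.Injective e :=
    LinearMap.ker_eq_bot.1 (Submodule.ker_liftQ_eq_bot _ _ _ le_rfl)
  have h1 : Function.Injective (LinearMap.lTensor T e) :=
    Module.Flat.lTensor_preserves_injective_linearMap e he
  have := h1.subsingleton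
  have h2 : Subsingleton (T ⧸ J • (⊤ : Submodule B T)) :=
    (TensorProduct.tensorQuotEquivQuotSMul T J).symm.subsingleton
  apply hne
  rw [Ideal.eq_top_iff_one]
  have h3 : (1 : T) ∈ J • (⊤ : Submodule B T) :=
    (Submodule.Quotient.mk_eq_zero _).1 (Subsingleton.elim _ _)
  rw [Ideal.smul_top_eq_map] at h3
  exact Ideal.map_mono hle h3

/-- An algebra with an etale faithfully flat cover which is smooth over the base is smooth. -/
theorem smooth_of_etale_faithfullyFlat (C : Type u) [CommRing C] [Algebra A C] [Algebra B C]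
    [IsScalarTower A B C] [Algebra.Etale B C] [Module.FaithfullyFlat B C] [Algebra.Smooth A C] :
    Algebra.Smooth A B := by
  have : Algebra.FinitePresentation A B := finitePresentation_of_smooth_faithfullyFlat (B := C)
  refine ⟨⟨?_, ?_⟩, ‹_›⟩
  · have e := KaehlerDifferential.tensorKaehlerEquivOfFormallyEtale A B C
    have : Module.Flat C (C ⊗[B] Ω[B⁄A]) := .of_linearEquiv e
    have : Module.Flat B Ω[B⁄A] := Module.Flat.of_flat_tensorProduct _ _ C
    exact Module.Flat.projective_of_finitePresentation
  · refine subsingleton_of_flat_family (B := B) fun m hm => ?_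
    obtain ⟨⟨q, hq⟩, hqm⟩ := PrimeSpectrum.comap_surjective_of_faithfullyFlat (A := B) (B := C)
      ⟨m, hm.isPrime⟩
    have hqm' : q.comap (algebraMap B C) = m := congrArg PrimeSpectrum.asIdeal hqm
    obtain ⟨g, hg, hstd⟩ := Algebra.IsEtaleAt.exists_isStandardEtale (R := B) q
    let T := Localization.Away g
    have : Algebra.FormallySmooth A T := .comp A C T
    obtain ⟨e⟩ := nonempty_tensorH1Cotangent_equiv_of_isStandardEtale (A := A) (B := B) T
    refine ⟨T, inferInstance, inferInstance, inferInstance, e.subsingleton, fun htop => ?_⟩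
    have hle : m.map (algebraMap B T) ≤ q.map (algebraMap C T) := by
      rw [IsScalarTower.algebraMap_eq B C T, ← Ideal.map_map, ← hqm']
      exact Ideal.map_mono Ideal.map_comap_le
    have hdisj : Disjoint (Submonoid.powers g : Set C) (q : Set C) := by
      rw [Set.disjoint_left]
      rintro _ ⟨n, rfl⟩ hn
      exact hg (hq.mem_of_pow_mem n hn)
    exact (IsLocalization.isPrime_of_isPrime_disjoint (Submonoid.powers g) T q hq hdisj).ne_top
      (top_unique (htop ▸ hle))


end Groth.Agent.SrcDescent
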