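import Groth.Agent.SrcDescent.Scheme
import Groth.Agent.SrcDescent.SmoothAlg

/-!
# Smoothness is local on the source in the etale topology
-/

set_option backward.isDefEq.respectTransparency false
set_option backward.isDefEq.respectTransparency.types false

universe u

open CategoryTheory CategoryTheory.Limits AlgebraicGeometry

namespace Groth.Agent.SrcDescent

theorem smooth_of_precomp_etale {R A B : Type u} [CommRing R] [CommRing A] [CommRing B] (φ : R →+* A)
    (ψ : A →+* B) (hψ : ψ.Etale) (hs : Function.Surjective (PrimeSpectrum.comap ψ))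
    (h : (ψ.comp φ).Smooth) : φ.Smooth := by
  have hff : ψ.FaithfullyFlat :=
    faithfullyFlat_of_smooth ψ ((RingHom.etale_iff_formallyUnramified_and_smooth ψ).1 hψ).2 hs
  algebraize [φ, ψ, ψ.comp φ]
  exact smooth_of_etale_faithfullyFlat B

theorem smooth_of_etale_comp {X Y Z : Scheme.{u}} (f : X ⟶ Y) (g : Y ⟶ Z) [Surjective f] [Etale f]
    (h : Smooth (f ≫ g)) : Smooth g :=
  of_precomp_of_ringHom (P := @Smooth) (W := @Etale) (fun f _ => f.isOpenMap)
    (fun φ ψ => smooth_of_precomp_etale φ ψ) f g ‹_› h

end Groth.Agent.SrcDescent
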