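import Groth.Agent.SrcDescent.SchemeFppf
import Groth.Agent.S1562
import Groth.Agent.S1563
import Groth.Agent.S2156

/-!
# Smoothness descends along fppf maps on the source
-/

set_option backward.isDefEq.respectTransparency false
set_option backward.isDefEq.respectTransparency.types false
set_option autoImplicit false

universe u

open CategoryTheory CategoryTheory.Limits AlgebraicGeometry

namespace Groth.Agent.SrcDescent

theorem flat_of_fppf_comp {X Y Z : Scheme.{u}} (f : X ⟶ Y) (g : Y ⟶ Z) [Surjective f] [Flat f]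
    [LocallyOfFinitePresentation f] [Flat (f ≫ g)] : Flat g :=
  of_fppf_precomp_of_ringHom (P := @Flat)
    (fun φ ψ hff _ h => flat_of_precomp_flat φ ψ hff.flat
      (RingHom.FaithfullyFlat.iff_flat_and_comap_surjective.1 hff).2 h) f g ‹_›

theorem smooth_of_fppf_comp {X Y Z : Scheme.{u}} (f : X ⟶ Y) (g : Y ⟶ Z) [Surjective f] [Flat f]
    [LocallyOfFinitePresentation f] [Smooth (f ≫ g)] : Smooth g := by
  have : LocallyOfFinitePresentation g := locallyOfFinitePresentation_of_fppf_comp f g
  have : Flat g := flat_of_fppf_comp f g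
  refine Scheme.Hom.smoothLocus_eq_top_iff.1 (top_unique fun y _ => ?_)
  let s := g.base y
  let k : Type u := Z.residueField s
  let b : g.fiber s ⟶ Spec (CommRingCat.of k) := g.fiberToSpecResidueField s
  let Ys : Scheme.{u} := g.fiber s
  let ι : Ys ⟶ Y := g.fiberι s
  have hb : LocallyOfFinitePresentation b :=
    MorphismProperty.pullback_snd (P := @LocallyOfFinitePresentation) g (Z.fromSpecResidueField s) ‹_›
  refine (@Groth.Agent.S2156.result _ _ g _ y hb).2 ⟨Flat.stalkMap g y, ?_⟩
  let Xs := pullback f ι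
  let fs : Xs ⟶ Ys := pullback.snd f ι
  obtain ⟨x, hx⟩ := fs.surjective (g.asFiber y)
  have hsm : Smooth (fs ≫ b) :=
    MorphismProperty.of_isPullback (P := @Smooth)
      ((IsPullback.of_hasPullback f ι).paste_vert (IsPullback.of_hasPullback g (Z.fromSpecResidueField s))) ‹_›
  let _ : Ys.Over (Spec (CommRingCat.of k)) := ⟨b⟩
  let _ : Xs.Over (Spec (CommRingCat.of k)) := ⟨fs ≫ b⟩
  have : LocallyOfFinitePresentation (Ys ↘ Spec (CommRingCat.of k)) := hb
  have : LocallyOfFinitePresentation (Xs ↘ Spec (CommRingCat.of k)) :=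
    inferInstanceAs (LocallyOfFinitePresentation (fs ≫ b))
  have : IsLocallyNoetherian Ys := LocallyOfFiniteType.isLocallyNoetherian b
  have : IsLocallyNoetherian Xs := LocallyOfFiniteType.isLocallyNoetherian (fs ≫ b)
  have h1 : Curv2.IsGeomRegularAt k Xs x := (Groth.Agent.S1562.result k Xs x).2 (by
    show x ∈ (fs ≫ b).smoothLocus
    rw [(fs ≫ b).smoothLocus_eq_top]
    trivial)
  have h2 := Groth.Agent.S1563.result k Xs Ys fs rfl x (Flat.stalkMap fs x) h1
  rw [show fs.base x = g.asFiber y from hx] at h2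
  exact (Groth.Agent.S1562.result k Ys (g.asFiber y)).1 h2

end Groth.Agent.SrcDescent
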