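import Mathlib.AlgebraicGeometry.Morphisms.Etale
import Mathlib.AlgebraicGeometry.Morphisms.QuasiFinite
import Mathlib.AlgebraicGeometry.Morphisms.LocalIso
import Mathlib.AlgebraicGeometry.Morphisms.UniversallyOpen
import Mathlib.RingTheory.Etale.Kaehler
import Groth.Agent.SrcDescent.Algebra
import Groth.Agent.FDescent.FlatCancel

/-!
# Descent at the source along smooth and etale surjections
-/

set_option backward.isDefEq.respectTransparency false
set_option backward.isDefEq.respectTransparency.types false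

universe u

open CategoryTheory CategoryTheory.Limits AlgebraicGeometry

namespace Groth.Agent.SrcDescent

/-- Reduction of descent at the source to ring maps, for covers whose maps are open. -/
theorem of_precomp_of_ringHom {P W : MorphismProperty Scheme.{u}}
    {Q Q' : ∀ {R S : Type u} [CommRing R] [CommRing S], (R →+* S) → Prop}
    [HasRingHomProperty P Q] [HasRingHomProperty W Q'] [W.IsStableUnderBaseChange]
    (hopen : ∀ {X Y : Scheme.{u}} (f : X ⟶ Y), W f → IsOpenMap f)
    (H : ∀ {R A B : Type u} [CommRing R] [CommRing A] [CommRing B] (φ : R →+* A) (ψ : A →+* B),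
      Q' ψ → Function.Surjective (PrimeSpectrum.comap ψ) → Q (ψ.comp φ) → Q φ)
    {X Y Z : Scheme.{u}} (f : X ⟶ Y) (g : Y ⟶ Z) (hf : W f) [Surjective f] (h : P (f ≫ g)) : P g := by
  wlog hZ : IsAffine Z generalizing X Y Z
  · rw [IsZariskiLocalAtTarget.iff_of_iSup_eq_top (P := P) _ (iSup_affineOpens_eq_top Z)]
    intro U
    have h1 := IsZariskiLocalAtTarget.restrict (P := P) h U.1
    rw [morphismRestrict_comp] at h1
    exact @this _ _ _ (f ∣_ (g ⁻¹ᵁ U.1)) (g ∣_ U.1) (IsZariskiLocalAtTarget.restrict hf _) (IsZariskiLocalAtTarget.restrict (P := @Surjective) ‹_› _) h1 inferInstance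
  wlog hY : IsAffine Y generalizing X Y
  · rw [IsZariskiLocalAtSource.iff_of_iSup_eq_top (P := P) _ (iSup_affineOpens_eq_top Y)]
    intro U
    have h1 := HasRingHomProperty.comp_of_isOpenImmersion P (f ⁻¹ᵁ U.1).ι (f ≫ g) h
    rw [← morphismRestrict_ι_assoc] at h1
    exact @this _ _ (f ∣_ U.1) (U.1.ι ≫ g) (IsZariskiLocalAtTarget.restrict hf _) (IsZariskiLocalAtTarget.restrict (P := @Surjective) ‹_› _) h1 inferInstance
  wlog hX : IsAffine X generalizing X
  · obtain ⟨V, hV, e⟩ := (hopen f hf).exists_opens_image_eq_of_prespectralSpace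
      f.continuous (by simp) isOpen_univ isCompact_univ
    let V' : X.Opens := V
    haveI hcomp : CompactSpace (V' : Scheme.{u}) := isCompact_iff_compactSpace.mp hV
    have hfV : Surjective (V'.ι ≫ f) := ⟨fun y => by
      obtain ⟨x, hx, hxy⟩ := e.ge (Set.mem_univ y)
      exact ⟨⟨x, hx⟩, hxy⟩⟩
    let 𝒰 := (V' : Scheme.{u}).affineCover.finiteSubcover
    let p : (∐ fun i : 𝒰.I₀ ↦ 𝒰.X i) ⟶ V' := Sigma.desc (fun i ↦ 𝒰.f i)
    have hp : Surjective p := ⟨fun x => by
      obtain ⟨i, y, rfl⟩ := 𝒰.exists_eq x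
      exact ⟨Sigma.ι 𝒰.X i y, by rw [← Scheme.Hom.comp_apply, Sigma.ι_desc]⟩⟩
    refine this (p ≫ V'.ι ≫ f) ?_ ?_ inferInstance
    · rw [IsZariskiLocalAtSource.iff_of_openCover (P := W) (sigmaOpenCover _)]
      intro i
      simp only [sigmaOpenCover_f, p, Sigma.ι_desc_assoc]
      exact HasRingHomProperty.comp_of_isOpenImmersion W _ _
        (HasRingHomProperty.comp_of_isOpenImmersion W _ _ hf)
    · rw [IsZariskiLocalAtSource.iff_of_openCover (P := P) (sigmaOpenCover _)]
      intro i
      simp only [sigmaOpenCover_f, p, Sigma.ι_desc_assoc, Category.assoc]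
      exact HasRingHomProperty.comp_of_isOpenImmersion P _ _
        (HasRingHomProperty.comp_of_isOpenImmersion P _ _ h)
  rw [HasRingHomProperty.iff_of_isAffine (P := P)] at h ⊢
  rw [HasRingHomProperty.iff_of_isAffine (P := W)] at hf
  refine H g.appTop.hom f.appTop.hom hf ?_ (by simpa using h)
  have : Surjective (Spec.map f.appTop) := by
    rw [← MorphismProperty.arrow_mk_iso_iff @Surjective (arrowIsoSpecΓOfIsAffine f)]
    infer_instance
  exact (Spec.map f.appTop).surjective

variable {R A B : Type u} [CommRing R] [CommRing A] [CommRing B] (φ : R →+* A) (ψ : A →+* B)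

theorem faithfullyFlat_of_smooth (hψ : ψ.Smooth) (hs : Function.Surjective (PrimeSpectrum.comap ψ)) :
    ψ.FaithfullyFlat :=
  RingHom.FaithfullyFlat.iff_flat_and_comap_surjective.2 ⟨hψ.flat, hs⟩

theorem finiteType_of_precomp_smooth (hψ : ψ.Smooth) (hs : Function.Surjective (PrimeSpectrum.comap ψ))
    (h : (ψ.comp φ).FiniteType) : φ.FiniteType := by
  have hff := faithfullyFlat_of_smooth ψ hψ hs
  algebraize [φ, ψ, ψ.comp φ]
  exact finiteType_of_smooth_faithfullyFlat (B := B)

theorem finitePresentation_of_precomp_smooth (hψ : ψ.Smooth)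
    (hs : Function.Surjective (PrimeSpectrum.comap ψ)) (h : (ψ.comp φ).FinitePresentation) :
    φ.FinitePresentation := by
  have hff := faithfullyFlat_of_smooth ψ hψ hs
  algebraize [φ, ψ, ψ.comp φ]
  exact finitePresentation_of_smooth_faithfullyFlat (B := B)

theorem flat_of_precomp_flat (hψ : ψ.Flat) (hs : Function.Surjective (PrimeSpectrum.comap ψ))
    (h : (ψ.comp φ).Flat) : φ.Flat := by
  have hff := RingHom.FaithfullyFlat.iff_flat_and_comap_surjective.2 ⟨hψ, hs⟩
  algebraize [φ, ψ, ψ.comp φ]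
  exact Groth.Agent.FDescent.flat_cancel R A B

theorem formallyUnramified_of_precomp_etale (hψ : ψ.Etale)
    (hs : Function.Surjective (PrimeSpectrum.comap ψ)) (h : (ψ.comp φ).FormallyUnramified) :
    φ.FormallyUnramified := by
  have hff : ψ.FaithfullyFlat := faithfullyFlat_of_smooth ψ (((RingHom.etale_iff_formallyUnramified_and_smooth ψ).1 hψ).2) hs
  algebraize [φ, ψ, ψ.comp φ]
  refine ⟨?_⟩
  have := (KaehlerDifferential.tensorKaehlerEquivOfFormallyEtale R A B).subsingleton
  exact Module.FaithfullyFlat.lTensor_reflects_triviality A B Ω[A⁄R]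

section Scheme

variable {X Y Z : Scheme.{u}} (f : X ⟶ Y) (g : Y ⟶ Z) [Surjective f]

theorem locallyOfFiniteType_of_smooth_comp [Smooth f] (h : LocallyOfFiniteType (f ≫ g)) :
    LocallyOfFiniteType g :=
  of_precomp_of_ringHom (P := @LocallyOfFiniteType) (W := @Smooth) (fun f _ => f.isOpenMap)
    (fun φ ψ => finiteType_of_precomp_smooth φ ψ) f g ‹_› h

theorem locallyOfFinitePresentation_of_smooth_comp [Smooth f]
    (h : LocallyOfFinitePresentation (f ≫ g)) : LocallyOfFinitePresentation g :=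
  of_precomp_of_ringHom (P := @LocallyOfFinitePresentation) (W := @Smooth) (fun f _ => f.isOpenMap)
    (fun φ ψ => finitePresentation_of_precomp_smooth φ ψ) f g ‹_› h

theorem flat_of_smooth_comp [Smooth f] (h : Flat (f ≫ g)) : Flat g :=
  of_precomp_of_ringHom (P := @Flat) (W := @Smooth) (fun f _ => f.isOpenMap)
    (fun φ ψ hψ => flat_of_precomp_flat φ ψ hψ.flat) f g ‹_› h

theorem formallyUnramified_of_etale_comp [Etale f] (h : FormallyUnramified (f ≫ g)) :
    FormallyUnramified g :=
  of_precomp_of_ringHom (P := @FormallyUnramified) (W := @Etale) (fun f _ => f.isOpenMap)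
    (fun φ ψ => formallyUnramified_of_precomp_etale φ ψ) f g ‹_› h

theorem etale_of_etale_comp [Etale f] (h : Etale (f ≫ g)) : Etale g := by
  obtain ⟨h1, h2, h3⟩ := Etale.iff_flat_and_formallyUnramified.1 h
  exact Etale.iff_flat_and_formallyUnramified.2 ⟨flat_of_smooth_comp f g h1,
    formallyUnramified_of_etale_comp f g h2, locallyOfFinitePresentation_of_smooth_comp f g h3⟩

theorem locallyQuasiFinite_of_surjective_comp [Smooth f] (h : LocallyQuasiFinite (f ≫ g))
    (h' : LocallyOfFiniteType (f ≫ g)) : LocallyQuasiFinite g := by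
  have := locallyOfFiniteType_of_smooth_comp f g h'
  rw [locallyQuasiFinite_iff_isDiscrete_preimage_singleton]
  intro z
  have hd := Scheme.Hom.isDiscrete_preimage_singleton (f ≫ g) z
  rw [isDiscrete_iff_discreteTopology, discreteTopology_iff_isOpen_singleton] at hd ⊢
  rintro ⟨y, hy⟩
  obtain ⟨x, rfl⟩ := f.surjective y
  have hx : x ∈ (f ≫ g) ⁻¹' {z} := by simpa [Scheme.Hom.comp_apply] using hy
  obtain ⟨O, hO, hOeq⟩ := isOpen_induced_iff.1 (hd ⟨x, hx⟩)
  refine isOpen_induced_iff.2 ⟨f '' O, f.isOpenMap _ hO, ?_⟩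
  ext ⟨y', hy'⟩
  simp only [Set.mem_preimage, Set.mem_image, Set.mem_singleton_iff, Subtype.mk.injEq]
  constructor
  · rintro ⟨x', hx'O, rfl⟩
    have hx' : x' ∈ (f ≫ g) ⁻¹' {z} := by simpa [Scheme.Hom.comp_apply] using hy'
    have : (⟨x', hx'⟩ : ↥((f ≫ g) ⁻¹' {z})) = ⟨x, hx⟩ := (Set.ext_iff.1 hOeq ⟨x', hx'⟩).1 hx'O
    exact congrArg (fun w => f w.1) this
  · rintro rfl
    exact ⟨x, (Set.ext_iff.1 hOeq ⟨x, hx⟩).2 rfl, rfl⟩

end Scheme

end Groth.Agent.SrcDescent
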