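import Mathlib.RingTheory.Smooth.Fiber
import Mathlib.RingTheory.Polynomial.Basic
import Groth.Agent.SrcDescent.SmoothAlg

/-!
# Smoothness descends along smooth faithfully flat maps of the source
-/

set_option backward.isDefEq.respectTransparency false
set_option backward.isDefEq.respectTransparency.types false

universe u

open TensorProduct

namespace Groth.Agent.SrcDescent

variable {A B : Type u} [CommRing A] [CommRing B] [Algebra A B]

/-- If the kernel of a morphism of extensions is extended from a flat map, the induced map on the first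
cotangent homology, extended along a flat map, is injective. -/
theorem liftBaseChange_h1Cotangent_map_injective {T : Type u} [CommRing T] [Algebra A T] [Algebra B T]
    [IsScalarTower A B T] [Module.Flat B T] {P : Algebra.Extension.{u} A B}
    {Q : Algebra.Extension.{u} A T} (f : P.Hom Q) [Algebra P.Ring Q.Ring]
    (halg : algebraMap P.Ring Q.Ring = f.toRingHom) [Module.Flat P.Ring Q.Ring]
    (hker : RingHom.ker (algebraMap Q.Ring T) ≤ P.ker.map (algebraMap P.Ring Q.Ring)) :
    Function.Injective ((Algebra.Extension.H1Cotangent.map f).liftBaseChange T) := by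
  have H : Function.Bijective ((f.mapKer halg).liftBaseChange Q.Ring) := by
    refine ⟨?_, ?_⟩
    · have h1 := Module.Flat.lTensor_preserves_injective_linearMap (M := Q.Ring)
        P.ker.subtype Subtype.val_injective
      intro a b hab
      apply h1
      apply (TensorProduct.rid P.Ring Q.Ring).injective
      have h2 : ∀ z : Q.Ring ⊗[P.Ring] P.ker,
          TensorProduct.rid P.Ring Q.Ring (LinearMap.lTensor Q.Ring P.ker.subtype z) =
            ((f.mapKer halg).liftBaseChange Q.Ring z).val := by
        intro z
        induction z with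
        | zero => simp
        | add x y hx hy => simp only [map_add, Submodule.coe_add, hx, hy]
        | tmul q i =>
          simp only [LinearMap.lTensor_tmul, TensorProduct.rid_tmul, LinearMap.liftBaseChange_tmul,
            Submodule.coe_subtype, SetLike.val_smul, Algebra.Extension.Hom.mapKer_apply_coe,
            smul_eq_mul]
          rw [Algebra.smul_def, halg, mul_comm]
      rw [h2, h2, hab]
    · intro q
      have hle : P.ker.map (algebraMap P.Ring Q.Ring) ≤
          Submodule.map (Submodule.subtype _) (LinearMap.range ((f.mapKer halg).liftBaseChange Q.Ring)) := by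
        refine Ideal.map_le_iff_le_comap.2 fun i hi => ?_
        exact ⟨_, ⟨1 ⊗ₜ ⟨i, hi⟩, rfl⟩, by simp [LinearMap.liftBaseChange_tmul, halg]⟩
      obtain ⟨q', ⟨z, hz⟩, hq'⟩ := hle (hker q.2)
      exact ⟨z, hz.trans (Subtype.ext hq')⟩
  rw [injective_iff_map_eq_zero]
  intro x hx
  apply Module.Flat.lTensor_preserves_injective_linearMap _ Algebra.Extension.h1Cotangentι_injective
  apply (Algebra.Extension.tensorCotangent f halg H).injective
  simp only [map_zero]
  rw [← Algebra.Extension.h1Cotangentι.map_zero, ← hx]
  change ((Algebra.Extension.Cotangent.map f).liftBaseChange T ∘ₗ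
    Algebra.Extension.h1Cotangentι.baseChange T) x = (Algebra.Extension.h1Cotangentι ∘ₗ _) x
  congr 1
  ext x
  simp

/-- The first cotangent cohomology injects into that of a polynomial algebra. -/
theorem exists_injective_tensorH1_mvPolynomial (n : ℕ) :
    ∃ φ : MvPolynomial (Fin n) B ⊗[B] Algebra.H1Cotangent A B →ₗ[MvPolynomial (Fin n) B]
      Algebra.H1Cotangent A (MvPolynomial (Fin n) B), Function.Injective φ := by
  let P : Algebra.Extension.{u} A B := (Algebra.Generators.self A B).toExtension
  have : Algebra.FormallySmooth A P.Ring :=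
    inferInstanceAs (Algebra.FormallySmooth A (MvPolynomial B A))
  let ψ : MvPolynomial (Fin n) P.Ring →ₐ[A] MvPolynomial (Fin n) B :=
    MvPolynomial.mapAlgHom (IsScalarTower.toAlgHom A P.Ring B)
  have hψ : ∀ x, ψ x = MvPolynomial.map (algebraMap P.Ring B) x := fun x => rfl
  let Q : Algebra.Extension.{u} A (MvPolynomial (Fin n) B) :=
    .ofSurjective ψ (MvPolynomial.map_surjective _ P.algebraMap_surjective)
  let hom : P.Hom Q :=
    { toRingHom := MvPolynomial.C
      toRingHom_algebraMap := fun a => (MvPolynomial.algebraMap_apply a).symm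
      algebraMap_toRingHom := fun r => by
        change ψ (MvPolynomial.C r) = _
        rw [hψ, MvPolynomial.map_C]
        rfl }
  letI : Algebra P.Ring Q.Ring := (inferInstance : Algebra P.Ring (MvPolynomial (Fin n) P.Ring))
  have : Algebra.FormallySmooth A Q.Ring :=
    Algebra.FormallySmooth.comp A P.Ring (MvPolynomial (Fin n) P.Ring)
  have : Module.Flat P.Ring Q.Ring :=
    inferInstanceAs (Module.Flat P.Ring (MvPolynomial (Fin n) P.Ring))
  refine ⟨(Algebra.Extension.equivH1CotangentOfFormallySmooth Q).toLinearMap ∘ₗ
    (Algebra.Extension.H1Cotangent.map hom).liftBaseChange _,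
    (Algebra.Extension.equivH1CotangentOfFormallySmooth Q).injective.comp
      (liftBaseChange_h1Cotangent_map_injective hom rfl ?_)⟩
  intro q hq
  have hq' : q ∈ RingHom.ker (MvPolynomial.map (σ := Fin n) (algebraMap P.Ring B)) := hq
  rw [MvPolynomial.ker_map] at hq'
  exact hq'

/-- An algebra with a smooth faithfully flat cover which is smooth over the base is smooth. -/
theorem smooth_of_smooth_faithfullyFlat (C : Type u) [CommRing C] [Algebra A C] [Algebra B C]
    [IsScalarTower A B C] [Algebra.Smooth B C] [Module.FaithfullyFlat B C] [Algebra.Smooth A C] :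
    Algebra.Smooth A B := by
  have : Algebra.FinitePresentation A B := finitePresentation_of_smooth_faithfullyFlat (B := C)
  refine ⟨⟨?_, ?_⟩, ‹_›⟩
  · have hinj : Function.Injective (KaehlerDifferential.mapBaseChange A B C) := by
      rw [injective_iff_map_eq_zero]
      intro x hx
      obtain ⟨x, rfl⟩ := (Algebra.H1Cotangent.exact_δ_mapBaseChange A B C x).mp hx
      rw [Subsingleton.elim x 0, map_zero]
    obtain ⟨l, hl⟩ := (((KaehlerDifferential.exact_mapBaseChange_map A B C).split_tfae'.out 0 1 rfl rfl).mp
      ⟨hinj, Module.projective_lifting_property _ _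
        (KaehlerDifferential.map_surjective A B C)⟩).2
    have : Module.Flat C (C ⊗[B] Ω[B⁄A]) := Module.Flat.of_retract _ l hl
    have : Module.Flat B Ω[B⁄A] := Module.Flat.of_flat_tensorProduct _ _ C
    exact Module.Flat.projective_of_finitePresentation
  · refine subsingleton_of_flat_family (B := B) fun m hm => ?_
    obtain ⟨⟨q, hq⟩, hqm⟩ := PrimeSpectrum.comap_surjective_of_faithfullyFlat (A := B) (B := C)
      ⟨m, hm.isPrime⟩
    have hqm' : q.comap (algebraMap B C) = m := congrArg PrimeSpectrum.asIdeal hqm
    obtain ⟨g, hg, n, alg, htower, hstd⟩ :=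
      Algebra.IsSmoothAt.exists_isStandardEtale_mvPolynomial (R := B) (p := q)
    let B' := MvPolynomial (Fin n) B
    let T := Localization.Away g
    have : IsScalarTower A B' T := .to₁₃₄ A B B' T
    have : Algebra.FormallySmooth A T := .comp A C T
    obtain ⟨e⟩ := nonempty_tensorH1Cotangent_equiv_of_isStandardEtale (A := A) (B := B') T
    obtain ⟨φ, hφ⟩ := exists_injective_tensorH1_mvPolynomial (A := A) (B := B) n
    have hsub : Subsingleton (T ⊗[B'] (B' ⊗[B] Algebra.H1Cotangent A B)) := by
      have := e.subsingleton
      exact (Module.Flat.lTensor_preserves_injective_linearMap (M := T) φ hφ).subsingleton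
    refine ⟨T, inferInstance, inferInstance, inferInstance,
      (TensorProduct.AlgebraTensorModule.cancelBaseChange B B' T T _).symm.subsingleton,
      fun htop => ?_⟩
    have hle : m.map (algebraMap B T) ≤ q.map (algebraMap C T) := by
      rw [IsScalarTower.algebraMap_eq B C T, ← Ideal.map_map, ← hqm']
      exact Ideal.map_mono Ideal.map_comap_le
    have hdisj : Disjoint (Submonoid.powers g : Set C) (q : Set C) := by
      rw [Set.disjoint_left]
      rintro _ ⟨k, rfl⟩ hk
      exact hg (hq.mem_of_pow_mem k hk)
    exact (IsLocalization.isPrime_of_isPrime_disjoint (Submonoid.powers g) T q hq hdisj).ne_top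
      (top_unique (htop ▸ hle))

end Groth.Agent.SrcDescent
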