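import Mathlib.AlgebraicGeometry.Sites.Fpqc
import Mathlib.AlgebraicGeometry.Sites.Etale
import Groth.Agent.SrcDescent.Scheme
import Groth.Agent.SrcDescent.SmoothAlg2

/-!
# Properties of morphisms of schemes local on the source in the flat, smooth and etale topologies
-/

set_option backward.isDefEq.respectTransparency false
set_option backward.isDefEq.respectTransparency.types false

universe u

open CategoryTheory CategoryTheory.Limits AlgebraicGeometry

namespace Groth.Agent.SrcDescent

theorem smooth_of_precomp_smooth {R A B : Type u} [CommRing R] [CommRing A] [CommRing B] (φ : R →+* A)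
    (ψ : A →+* B) (hψ : ψ.Smooth) (hs : Function.Surjective (PrimeSpectrum.comap ψ))
    (h : (ψ.comp φ).Smooth) : φ.Smooth := by
  have hff : ψ.FaithfullyFlat := faithfullyFlat_of_smooth ψ hψ hs
  algebraize [φ, ψ, ψ.comp φ]
  exact smooth_of_smooth_faithfullyFlat B

theorem smooth_of_smooth_comp {X Y Z : Scheme.{u}} (f : X ⟶ Y) (g : Y ⟶ Z) [Surjective f] [Smooth f]
    (h : Smooth (f ≫ g)) : Smooth g :=
  of_precomp_of_ringHom (P := @Smooth) (W := @Smooth) (fun f _ => f.isOpenMap)
    (fun φ ψ => smooth_of_precomp_smooth φ ψ) f g ‹_› h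

/-- Jointly surjective members of a covering indexed by the points. -/
theorem exists_family {W : MorphismProperty Scheme.{u}} {X : Scheme.{u}} {R : Presieve X}
    (hR : R ∈ Scheme.precoverage W X) (x : X) :
    ∃ (Y : Scheme.{u}) (g : Y ⟶ X), R g ∧ W g ∧ x ∈ Set.range g := by
  obtain ⟨𝒰, rfl⟩ := (Precoverage.mem_iff_exists_zeroHypercover).1 hR
  have h := 𝒰.mem₀
  rw [Scheme.presieve₀_mem_precoverage_iff] at h
  obtain ⟨i, y, hy⟩ := h.1 x
  exact ⟨_, 𝒰.f i, ⟨i⟩, h.2 i, y, hy⟩

/-- Being local on the source follows from descent along one surjective morphism. -/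
theorem isLocalAtSource_of_surjective {P W : MorphismProperty Scheme.{u}} [IsZariskiLocalAtSource P]
    [IsZariskiLocalAtSource W]
    (hcomp : ∀ {X Y Z : Scheme.{u}} (f : X ⟶ Y) (g : Y ⟶ Z), W f → P g → P (f ≫ g))
    (hdesc : ∀ {X Y Z : Scheme.{u}} (f : X ⟶ Y) (g : Y ⟶ Z), W f → Surjective f → P (f ≫ g) → P g) :
    P.IsLocalAtSource (Scheme.precoverage W) where
  comp {_ _ _ _} hR {_} g hg hf := hcomp g _ (hR.2 hg) hf
  of_forall_comp {X Y f R} hR H := by
    choose Z g hRg hWg hx using fun x : X => exists_family hR x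
    refine hdesc (Sigma.desc g) f ?_ ⟨fun x => ?_⟩ ?_
    · rw [IsZariskiLocalAtSource.iff_of_openCover (P := W) (sigmaOpenCover _)]
      intro x
      rw [sigmaOpenCover_f, Sigma.ι_desc]
      exact hWg x
    · obtain ⟨y, hy⟩ := hx x
      exact ⟨Sigma.ι Z x y, by rw [← Scheme.Hom.comp_apply, Sigma.ι_desc]; exact hy⟩
    · rw [IsZariskiLocalAtSource.iff_of_openCover (P := P) (sigmaOpenCover _)]
      intro x
      rw [sigmaOpenCover_f, Sigma.ι_desc_assoc]
      exact H (hRg x)

theorem flat_of_flat_comp {X Y Z : Scheme.{u}} (f : X ⟶ Y) (g : Y ⟶ Z) [Flat f] (x : X)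
    (h : Flat (f ≫ g)) : (g.stalkMap (f x)).hom.Flat := by
  have h1 := Flat.stalkMap (f ≫ g) x
  rw [Scheme.Hom.stalkMap_comp, CommRingCat.hom_comp] at h1
  have h2 : (f.stalkMap x).hom.FaithfullyFlat := by
    algebraize [(f.stalkMap x).hom]
    exact @Module.FaithfullyFlat.of_flat_of_isLocalHom _ _ _ _ _ _ _
      (Flat.stalkMap f x) (f.toLRSHom.prop x)
  exact flat_of_precomp_flat _ _ h2.flat (RingHom.FaithfullyFlat.iff_flat_and_comap_surjective.1 h2).2 h1

instance : MorphismProperty.IsLocalAtSource (@Flat : MorphismProperty Scheme.{u}) (Scheme.precoverage @Flat) where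
  comp {_ _ _ _} hR {_} g hg hf := MorphismProperty.comp_mem @Flat g _ (hR.2 hg) hf
  of_forall_comp {X Y f R} hR H := Flat.of_stalkMap f fun x => by
    obtain ⟨Z, g, hRg, hWg, z, rfl⟩ := exists_family hR x
    exact flat_of_flat_comp g f z (H hRg)

instance : MorphismProperty.IsLocalAtSource (@Flat : MorphismProperty Scheme.{u}) Scheme.fpqcPrecoverage where
  comp {_ _ _ _} hR {_} g hg hf := MorphismProperty.IsLocalAtSource.comp (K := Scheme.precoverage @Flat) hR.2 g hg hf
  of_forall_comp hR H :=
    MorphismProperty.IsLocalAtSource.of_forall_comp (K := Scheme.precoverage @Flat) hR.2 H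

instance : MorphismProperty.IsLocalAtSource (@Smooth : MorphismProperty Scheme.{u}) (Scheme.precoverage @Smooth) :=
  isLocalAtSource_of_surjective (fun f g hf hg => MorphismProperty.comp_mem @Smooth f g hf hg)
    fun f g _ _ h => smooth_of_smooth_comp f g h

instance : MorphismProperty.IsLocalAtSource (@Etale : MorphismProperty Scheme.{u}) Scheme.etalePrecoverage :=
  isLocalAtSource_of_surjective (fun f g hf hg => MorphismProperty.comp_mem @Etale f g hf hg)
    fun f g _ _ h => etale_of_etale_comp f g h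

end Groth.Agent.SrcDescent
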