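import Groth.Agent.SrcDescent.Algebra
import Groth.Agent.FlatModel.Core
import Mathlib.RingTheory.TensorProduct.MvPolynomial

/-!
# Flat finitely presented algebras come from finitely generated subalgebras, and source descent along them
-/

set_option synthInstance.maxHeartbeats 100000
set_option autoImplicit false

universe u

open TensorProduct

namespace Groth.Agent.SrcDescent

/-- The base change of a quotient of a polynomial ring. -/
theorem nonempty_quotient_map_algEquiv {A₀ A' : Type u} [CommRing A₀] [CommRing A'] [Algebra A₀ A'] {n : ℕ}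
    (I₀ : Ideal (MvPolynomial (Fin n) A₀)) :
    Nonempty ((MvPolynomial (Fin n) A' ⧸ I₀.map (MvPolynomial.map (algebraMap A₀ A'))) ≃ₐ[A']
      A' ⊗[A₀] (MvPolynomial (Fin n) A₀ ⧸ I₀)) := by
  let m : A' ⊗[A₀] MvPolynomial (Fin n) A₀ →ₐ[A'] A' ⊗[A₀] (MvPolynomial (Fin n) A₀ ⧸ I₀) :=
    Algebra.TensorProduct.map (AlgHom.id A' A') (Ideal.Quotient.mkₐ A₀ I₀)
  let e := MvPolynomial.algebraTensorAlgEquiv A₀ A' (σ := Fin n)
  let ψ : MvPolynomial (Fin n) A' →ₐ[A'] A' ⊗[A₀] (MvPolynomial (Fin n) A₀ ⧸ I₀) := m.comp e.symm.toAlgHom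
  have hm : Function.Surjective m :=
    Algebra.TensorProduct.map_surjective _ _ Function.surjective_id Ideal.Quotient.mk_surjective
  have hψ : Function.Surjective ψ := hm.comp e.symm.surjective
  have hk : RingHom.ker ψ = I₀.map (MvPolynomial.map (algebraMap A₀ A')) := by
    have h1 : RingHom.ker m = Ideal.map (Algebra.TensorProduct.includeRight : MvPolynomial (Fin n) A₀ →ₐ[A₀]
        A' ⊗[A₀] MvPolynomial (Fin n) A₀) I₀ := by
      have := Algebra.TensorProduct.lTensor_ker (A := A') (Ideal.Quotient.mkₐ A₀ I₀)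
        (Ideal.Quotient.mkₐ_surjective A₀ I₀)
      exact this.trans (congrArg (Ideal.map _) (Ideal.Quotient.mkₐ_ker A₀ I₀))
    ext p
    rw [RingHom.mem_ker]
    show m (e.symm p) = 0 ↔ _
    refine Iff.trans (RingHom.mem_ker (f := m)).symm ?_
    rw [h1]
    have hcomp : (e : A' ⊗[A₀] MvPolynomial (Fin n) A₀ →+* MvPolynomial (Fin n) A').comp
        (Algebra.TensorProduct.includeRight : MvPolynomial (Fin n) A₀ →ₐ[A₀]
          A' ⊗[A₀] MvPolynomial (Fin n) A₀).toRingHom = MvPolynomial.map (algebraMap A₀ A') := by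
      refine RingHom.ext fun q => ?_
      simp [e]
    rw [← hcomp, ← Ideal.map_map]
    refine ⟨fun h => ?_, fun h => ?_⟩
    · exact e.apply_symm_apply p ▸ Ideal.mem_map_of_mem (e : A' ⊗[A₀] MvPolynomial (Fin n) A₀ →+*
        MvPolynomial (Fin n) A') h
    · obtain ⟨q, hq, hqp⟩ := (Ideal.mem_map_iff_of_surjective _ e.surjective).1 h
      have : e.symm p = q := by rw [← hqp]; exact e.symm_apply_apply q
      rw [this]
      exact hq
  exact ⟨(Ideal.quotientEquivAlgOfEq A' hk.symm).trans (Ideal.quotientKerAlgEquivOfSurjective hψ)⟩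

theorem exists_of_stage {A B : Type u} [CommRing A] [CommRing B] [Algebra A B] {A₀ : Subalgebra ℤ A}
    (A₁ : Subalgebra ℤ A) (A₂ : Subalgebra A₀ A) (h : A₁ = A₂.restrictScalars ℤ) (hA₁ : A₁.FG)
    (C₀ : Type u) [CommRing C₀] [Algebra A₀ C₀] (hflat : Module.Flat A₂ (A₂ ⊗[A₀] C₀))
    (hfp : Algebra.FinitePresentation A₀ C₀) (e : B ≃ₐ[A] A ⊗[A₀] C₀) :
    ∃ (A₁ : Subalgebra ℤ A) (B₁ : Type u) (_ : CommRing B₁) (_ : Algebra A₁ B₁),
      A₁.FG ∧ Module.Flat A₁ B₁ ∧ Algebra.FinitePresentation A₁ B₁ ∧ Nonempty (B ≃ₐ[A] A ⊗[A₁] B₁) := by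
  subst h
  exact ⟨A₂.restrictScalars ℤ, A₂ ⊗[A₀] C₀, inferInstance, inferInstanceAs (Algebra A₂ (A₂ ⊗[A₀] C₀)), hA₁, hflat,
    inferInstanceAs (Algebra.FinitePresentation A₂ (A₂ ⊗[A₀] C₀)),
    ⟨e.trans (Algebra.TensorProduct.cancelBaseChange A₀ A₂ A A C₀).symm⟩⟩

/-- A finitely presented flat algebra is the base change of one over a finitely generated `ℤ`-subalgebra. -/
theorem exists_flat_model (A B : Type u) [CommRing A] [CommRing B] [Algebra A B]
    [Algebra.FinitePresentation A B] [Module.Flat A B] :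
    ∃ (A₁ : Subalgebra ℤ A) (B₁ : Type u) (_ : CommRing B₁) (_ : Algebra A₁ B₁),
      A₁.FG ∧ Module.Flat A₁ B₁ ∧ Algebra.FinitePresentation A₁ B₁ ∧ Nonempty (B ≃ₐ[A] A ⊗[A₁] B₁) := by
  classical
  obtain ⟨n, φ, hφ, hker⟩ := Algebra.FinitePresentation.out (R := A) (A := B)
  obtain ⟨G, hG⟩ := hker
  let c : Finset A := G.biUnion fun g => g.coeffs
  let A₀ : Subalgebra ℤ A := Algebra.adjoin ℤ (c : Set A)
  have hA₀ : A₀.FG := Subalgebra.fg_adjoin_finset c
  have : Algebra.FiniteType ℤ A₀ := (Subalgebra.fg_iff_finiteType A₀).1 hA₀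
  have : IsNoetherianRing A₀ := Algebra.FiniteType.isNoetherianRing ℤ A₀
  have hlift : ∀ g ∈ G, ∃ q : MvPolynomial (Fin n) A₀, MvPolynomial.map (algebraMap A₀ A) q = g := fun g hg =>
    MvPolynomial.mem_range_map_iff_coeffs_subset.2 fun x hx =>
      ⟨⟨x, Algebra.subset_adjoin (Finset.mem_biUnion.2 ⟨g, hg, hx⟩)⟩, rfl⟩
  choose! lg hlg using hlift
  let I₀ : Ideal (MvPolynomial (Fin n) A₀) := Ideal.span (lg '' (G : Set (MvPolynomial (Fin n) A)))
  have hI₀ : I₀.map (MvPolynomial.map (algebraMap A₀ A)) = RingHom.ker φ := by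
    rw [show RingHom.ker φ = Ideal.span (G : Set (MvPolynomial (Fin n) A)) from hG.symm, Ideal.map_span, Set.image_image, Set.image_congr fun g hg => hlg g hg, Set.image_id']
  let u : MvPolynomial (Fin n) A₀ →ₗ[MvPolynomial (Fin n) A₀] FlatModel.V 1 n A₀ :=
    (LinearEquiv.funUnique (Fin 1) (MvPolynomial (Fin n) A₀) (MvPolynomial (Fin n) A₀)).symm.toLinearMap
  let K₀ : Submodule (MvPolynomial (Fin n) A₀) (FlatModel.V 1 n A₀) := Submodule.map u I₀
  have hKK : ∀ (A' : Type u) [CommRing A'] [Algebra A₀ A'],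
      FlatModel.FlatC K₀ A' ↔ Module.Flat A' (A' ⊗[A₀] (MvPolynomial (Fin n) A₀ ⧸ I₀)) := by
    intro A' _ _
    rw [FlatModel.flatC_iff_flat]
    let e : FlatModel.V 1 n A' ≃ₗ[MvPolynomial (Fin n) A'] MvPolynomial (Fin n) A' :=
      LinearEquiv.funUnique (Fin 1) (MvPolynomial (Fin n) A') (MvPolynomial (Fin n) A')
    have hmap : Submodule.map (e : FlatModel.V 1 n A' →ₗ[MvPolynomial (Fin n) A'] MvPolynomial (Fin n) A')
        (FlatModel.KK K₀ A') = I₀.map (MvPolynomial.map (algebraMap A₀ A')) := by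
      rw [FlatModel.KK, Submodule.map_span, Ideal.map]
      congr 1
      ext x
      simp [K₀, u, e, FlatModel.mapV, LinearEquiv.funUnique]
    let q : (FlatModel.V 1 n A' ⧸ FlatModel.KK K₀ A') ≃ₗ[A']
        (MvPolynomial (Fin n) A' ⧸ I₀.map (MvPolynomial.map (algebraMap A₀ A'))) :=
      (Submodule.Quotient.equiv _ _ e hmap).restrictScalars A'
    obtain ⟨t⟩ := nonempty_quotient_map_algEquiv (A' := A') I₀
    exact Module.Flat.equiv_iff (q.trans t.toLinearEquiv)
  have hA : FlatModel.FlatC K₀ A := by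
    rw [hKK]
    obtain ⟨t⟩ := nonempty_quotient_map_algEquiv (A' := A) I₀
    exact Module.Flat.of_linearEquiv ((t.symm.trans ((Ideal.quotientEquivAlgOfEq A hI₀).trans
      (Ideal.quotientKerAlgEquivOfSurjective hφ))).toLinearEquiv)
  obtain ⟨A₂, hA₂, hflat⟩ := FlatModel.exists_fg_flatC K₀ hA
  rw [hKK] at hflat
  let A₁ : Subalgebra ℤ A := A₂.restrictScalars ℤ
  have hA₁ : A₁.FG := by
    have : Algebra.FiniteType A₀ A₂ := (Subalgebra.fg_iff_finiteType A₂).1 hA₂
    exact (Subalgebra.fg_iff_finiteType A₁).2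
      (Algebra.FiniteType.trans (R := ℤ) (S := A₀) (A := A₂) inferInstance inferInstance)
  have hfp : Algebra.FinitePresentation A₀ (MvPolynomial (Fin n) A₀ ⧸ I₀) :=
    Algebra.FinitePresentation.quotient ⟨G.image lg, by rw [Finset.coe_image]⟩
  obtain ⟨t⟩ := nonempty_quotient_map_algEquiv (A' := A) I₀
  exact exists_of_stage A₁ A₂ rfl hA₁ (MvPolynomial (Fin n) A₀ ⧸ I₀) hflat hfp
    (((Ideal.quotientKerAlgEquivOfSurjective hφ).symm.trans ((Ideal.quotientEquivAlgOfEq A hI₀.symm).trans t)))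

/-- Flat finitely presented faithfully flat maps descend finite type on the source. -/
theorem finiteType_of_fppf {R A B : Type u} [CommRing R] [CommRing A] [CommRing B] [Algebra R A] [Algebra A B]
    [Algebra R B] [IsScalarTower R A B] [Module.FaithfullyFlat A B] [Algebra.FinitePresentation A B]
    [Algebra.FiniteType R B] : Algebra.FiniteType R A := by
  classical
  obtain ⟨A₁, B₁, _, _, hA₁, _, _, ⟨e⟩⟩ := exists_flat_model A B
  obtain ⟨s, hs⟩ := hA₁
  let A₂ : Subalgebra R A := Algebra.adjoin R (s : Set A)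
  have hle : ∀ x : A₁, (x : A) ∈ A₂ := fun x => by
    have : A₁ ≤ A₂.restrictScalars ℤ := hs ▸ Algebra.adjoin_le fun y hy => Algebra.subset_adjoin hy
    exact this x.2
  let j : A₁ →+* A₂ := (algebraMap A₁ A).codRestrict A₂.toSubring hle
  let _ : Algebra A₁ A₂ := j.toAlgebra
  have : IsScalarTower A₁ A₂ A := @IsScalarTower.of_algebraMap_eq A₁ A₂ A _ _ _ _ _ _ fun x => rfl
  exact finiteType_of_model A₂ (Subalgebra.fg_adjoin_finset s) (A₂ ⊗[A₁] B₁)
    (e.trans (Algebra.TensorProduct.cancelBaseChange A₁ A₂ A A B₁).symm)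

/-- Flat finitely presented faithfully flat maps descend finite presentation on the source. -/
theorem finitePresentation_of_fppf {R A B : Type u} [CommRing R] [CommRing A] [CommRing B] [Algebra R A]
    [Algebra A B] [Algebra R B] [IsScalarTower R A B] [Module.FaithfullyFlat A B]
    [Algebra.FinitePresentation A B] [Algebra.FinitePresentation R B] : Algebra.FinitePresentation R A := by
  have := finiteType_of_fppf (R := R) (A := A) (B := B)
  obtain ⟨A₁, B₁, _, _, hA₁, _, _, ⟨e⟩⟩ := exists_flat_model A B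
  exact finitePresentation_of_model A₁ hA₁ B₁ e

end Groth.Agent.SrcDescent
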