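import Mathlib.AlgebraicGeometry.Sites.Fpqc
import Groth.Agent.SrcDescent.Scheme
import Groth.Agent.SrcDescent.LocalAtSource
import Groth.Agent.SrcDescent.FlatModelAlg

/-!
# Finiteness descends along fppf maps on the source
-/

set_option backward.isDefEq.respectTransparency false
set_option backward.isDefEq.respectTransparency.types false
set_option autoImplicit false

universe u

open CategoryTheory CategoryTheory.Limits AlgebraicGeometry

namespace Groth.Agent.SrcDescent

/-- Reduction of descent at the source to ring maps, for fppf covers. -/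
theorem of_fppf_precomp_of_ringHom {P : MorphismProperty Scheme.{u}}
    {Q : ∀ {R S : Type u} [CommRing R] [CommRing S], (R →+* S) → Prop} [HasRingHomProperty P Q]
    (H : ∀ {R A B : Type u} [CommRing R] [CommRing A] [CommRing B] (φ : R →+* A) (ψ : A →+* B),
      ψ.FaithfullyFlat → ψ.FinitePresentation → Q (ψ.comp φ) → Q φ)
    {X Y Z : Scheme.{u}} (f : X ⟶ Y) (g : Y ⟶ Z) [Flat f] [LocallyOfFinitePresentation f] [Surjective f]
    (h : P (f ≫ g)) : P g := by
  wlog hZ : IsAffine Z generalizing X Y Z
  · rw [IsZariskiLocalAtTarget.iff_of_iSup_eq_top (P := P) _ (iSup_affineOpens_eq_top Z)]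
    intro U
    have h1 := IsZariskiLocalAtTarget.restrict (P := P) h U.1
    rw [morphismRestrict_comp] at h1
    exact @this _ _ _ (f ∣_ (g ⁻¹ᵁ U.1)) (g ∣_ U.1) (IsZariskiLocalAtTarget.restrict ‹Flat f› _)
      (IsZariskiLocalAtTarget.restrict ‹LocallyOfFinitePresentation f› _)
      (IsZariskiLocalAtTarget.restrict (P := @Surjective) ‹_› _) h1 inferInstance
  wlog hY : IsAffine Y generalizing X Y
  · rw [IsZariskiLocalAtSource.iff_of_iSup_eq_top (P := P) _ (iSup_affineOpens_eq_top Y)]
    intro U
    have h1 := HasRingHomProperty.comp_of_isOpenImmersion P (f ⁻¹ᵁ U.1).ι (f ≫ g) h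
    rw [← morphismRestrict_ι_assoc] at h1
    exact @this _ _ (f ∣_ U.1) (U.1.ι ≫ g) (IsZariskiLocalAtTarget.restrict ‹Flat f› _)
      (IsZariskiLocalAtTarget.restrict ‹LocallyOfFinitePresentation f› _)
      (IsZariskiLocalAtTarget.restrict (P := @Surjective) ‹_› _) h1 inferInstance
  wlog hX : IsAffine X generalizing X
  · have huo : UniversallyOpen f := UniversallyOpen.of_flat f
    obtain ⟨V, hV, e⟩ := f.isOpenMap.exists_opens_image_eq_of_prespectralSpace
      f.continuous (by simp) isOpen_univ isCompact_univ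
    let V' : X.Opens := V
    have hcomp : CompactSpace (V' : Scheme.{u}) := isCompact_iff_compactSpace.mp hV
    let 𝒰 := (V' : Scheme.{u}).affineCover.finiteSubcover
    let p : (∐ fun i : 𝒰.I₀ ↦ 𝒰.X i) ⟶ V' := Sigma.desc (fun i ↦ 𝒰.f i)
    let q : (∐ fun i : 𝒰.I₀ ↦ 𝒰.X i) ⟶ Y := p ≫ V'.ι ≫ f
    have hq1 : Surjective q := ⟨fun y => by
      obtain ⟨x, hx, hxy⟩ := e.ge (Set.mem_univ y)
      obtain ⟨i, z, hz⟩ := 𝒰.exists_eq (⟨x, hx⟩ : (V' : Scheme.{u}))
      refine ⟨Sigma.ι 𝒰.X i z, ?_⟩
      rw [← Scheme.Hom.comp_apply]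
      simp only [q, p, Sigma.ι_desc_assoc]
      rw [Scheme.Hom.comp_apply, Scheme.Hom.comp_apply, hz]
      exact hxy⟩
    have hq2 : Flat q := by
      rw [IsZariskiLocalAtSource.iff_of_openCover (P := @Flat) (sigmaOpenCover _)]
      intro i
      simp only [sigmaOpenCover_f, q, p, Sigma.ι_desc_assoc]
      infer_instance
    have hq3 : LocallyOfFinitePresentation q := by
      rw [IsZariskiLocalAtSource.iff_of_openCover (P := @LocallyOfFinitePresentation) (sigmaOpenCover _)]
      intro i
      simp only [sigmaOpenCover_f, q, p, Sigma.ι_desc_assoc]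
      infer_instance
    refine this q ?_ inferInstance
    rw [IsZariskiLocalAtSource.iff_of_openCover (P := P) (sigmaOpenCover _)]
    intro i
    simp only [sigmaOpenCover_f, q, p, Sigma.ι_desc_assoc, Category.assoc]
    exact HasRingHomProperty.comp_of_isOpenImmersion P _ _
      (HasRingHomProperty.comp_of_isOpenImmersion P _ _ h)
  rw [HasRingHomProperty.iff_of_isAffine (P := P)] at h ⊢
  refine H g.appTop.hom f.appTop.hom ?_ ((HasRingHomProperty.iff_of_isAffine (P := @LocallyOfFinitePresentation)).1 ‹_›)
    (by simpa using h)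
  exact (Flat.flat_and_surjective_iff_faithfullyFlat_of_isAffine (f := f)).1 ⟨inferInstance, inferInstance⟩

theorem finiteType_of_precomp_fppf {R A B : Type u} [CommRing R] [CommRing A] [CommRing B] (φ : R →+* A)
    (ψ : A →+* B) (hff : ψ.FaithfullyFlat) (hfp : ψ.FinitePresentation) (h : (ψ.comp φ).FiniteType) :
    φ.FiniteType := by
  algebraize [φ, ψ, ψ.comp φ]
  exact finiteType_of_fppf (B := B)

theorem finitePresentation_of_precomp_fppf {R A B : Type u} [CommRing R] [CommRing A] [CommRing B] (φ : R →+* A)
    (ψ : A →+* B) (hff : ψ.FaithfullyFlat) (hfp : ψ.FinitePresentation) (h : (ψ.comp φ).FinitePresentation) :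
    φ.FinitePresentation := by
  algebraize [φ, ψ, ψ.comp φ]
  exact finitePresentation_of_fppf (B := B)

variable {X Y Z : Scheme.{u}} (f : X ⟶ Y) (g : Y ⟶ Z)

theorem locallyOfFiniteType_of_fppf_comp [Surjective f] [Flat f] [LocallyOfFinitePresentation f]
    [LocallyOfFiniteType (f ≫ g)] : LocallyOfFiniteType g :=
  of_fppf_precomp_of_ringHom (P := @LocallyOfFiniteType) (fun φ ψ => finiteType_of_precomp_fppf φ ψ) f g ‹_›

theorem locallyOfFinitePresentation_of_fppf_comp [Surjective f] [Flat f] [LocallyOfFinitePresentation f]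
    [LocallyOfFinitePresentation (f ≫ g)] : LocallyOfFinitePresentation g :=
  of_fppf_precomp_of_ringHom (P := @LocallyOfFinitePresentation)
    (fun φ ψ => finitePresentation_of_precomp_fppf φ ψ) f g ‹_›

instance : MorphismProperty.IsLocalAtSource (@LocallyOfFiniteType : MorphismProperty Scheme.{u})
    Scheme.fppfPrecoverage :=
  isLocalAtSource_of_surjective (W := @Flat ⊓ @LocallyOfFinitePresentation)
    (fun f g hf hg => by
      obtain ⟨_, hp⟩ := hf
      have : LocallyOfFinitePresentation f := hp
      have : LocallyOfFiniteType g := hg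
      exact inferInstanceAs (LocallyOfFiniteType (f ≫ g)))
    fun f g hf hs h => by
      obtain ⟨hl, hp⟩ := hf
      have : Flat f := hl
      have : LocallyOfFinitePresentation f := hp
      have : LocallyOfFiniteType (f ≫ g) := h
      exact locallyOfFiniteType_of_fppf_comp f g

instance : MorphismProperty.IsLocalAtSource (@LocallyOfFinitePresentation : MorphismProperty Scheme.{u})
    Scheme.fppfPrecoverage :=
  isLocalAtSource_of_surjective (W := @Flat ⊓ @LocallyOfFinitePresentation)
    (fun f g hf hg => by
      obtain ⟨_, hp⟩ := hf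
      have : LocallyOfFinitePresentation f := hp
      have : LocallyOfFinitePresentation g := hg
      exact inferInstanceAs (LocallyOfFinitePresentation (f ≫ g)))
    fun f g hf hs h => by
      obtain ⟨hl, hp⟩ := hf
      have : Flat f := hl
      have : LocallyOfFinitePresentation f := hp
      have : LocallyOfFinitePresentation (f ≫ g) := h
      exact locallyOfFinitePresentation_of_fppf_comp f g

end Groth.Agent.SrcDescent
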