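import Groth.Agent.AlgSpLib.Descends2
import Groth.Agent.SrcDescent.SchemeFppf

set_option backward.isDefEq.respectTransparency false
set_option backward.isDefEq.respectTransparency.types false
universe u
open CategoryTheory CategoryTheory.Limits AlgebraicGeometry
namespace Groth.Agent.SrcDescent

theorem quasiSeparated_of_comp_surjective {X Y Z : Scheme.{u}} (f : X ⟶ Y) (g : Y ⟶ Z) [Surjective f]
    [QuasiCompact f] [QuasiSeparated (f ≫ g)] : QuasiSeparated g := by
  refine ⟨?_⟩
  let m : pullback (f ≫ g) (f ≫ g) ⟶ pullback g g :=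
    pullback.map _ _ _ _ f f (𝟙 Z) (Category.comp_id _) (Category.comp_id _)
  have : QuasiCompact m :=
    MorphismProperty.pullbackMap (P := @QuasiCompact) (i₁ := f) (i₂ := f) ‹_› ‹_› rfl rfl
  have : QuasiCompact (pullback.diagonal (f ≫ g)) := QuasiSeparated.quasiCompact_diagonal
  have : QuasiCompact (f ≫ pullback.diagonal g) := by
    have e : f ≫ pullback.diagonal g = pullback.diagonal (f ≫ g) ≫ m := by
      apply pullback.hom_ext <;> simp [m]
    rw [e]
    infer_instance
  exact AlgSpLib.quasiCompact_of_comp_surjective f (pullback.diagonal g)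

end Groth.Agent.SrcDescent
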